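import Groth.Agent.DualCx.AdjAmp
import Groth.Agent.CohDerLib.QC.PushVanish
import Groth.Agent.CohDerLib.QC.HomBound
import Groth.Agent.CohDerLib.QC.PerfHom
import Groth.Agent.S0491
import Groth.Agent.ModShf.ToSheaf
import Groth.Agent.CohTop.Vanishing
import Groth.Agent.QCoh.Exact
import Groth.Agent.QCoh.Qcqs
import Groth.Agent.Omega.Stalks
import Groth.Prelude.Def_DCoh2

/-!
# The dualizing module of a curve has no sections supported at closed points
-/

set_option autoImplicit false
set_option linter.style.haveILetI false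
set_option backward.isDefEq.respectTransparency.types false

universe u

open CategoryTheory CategoryTheory.Limits AlgebraicGeometry DerivedCategory TopologicalSpace
open Groth.Agent.KFlat.QCohAcy

attribute [local instance] HasDerivedCategory.standard

noncomputable section

namespace Groth.Agent.DualCurveTF

variable {X : Scheme.{u}}

theorem height_le_of_subset {S : Set X} {d : ℕ} (hd : topologicalKrullDim S ≤ d) (T : IrreducibleCloseds X)
    (hT : (T : Set X) ⊆ S) : Order.height T ≤ d := by
  refine Order.height_le fun p hp => ?_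
  have hsub : ∀ i, (p i : Set X) ⊆ S := fun i =>
    fun y hy => hT (((p.monotone (Fin.le_last i)).trans (le_of_eq hp)) hy)
  let g : Fin (p.length + 1) → IrreducibleCloseds S := fun i =>
    ⟨Subtype.val ⁻¹' (p i : Set X), ⟨by
        obtain ⟨y, hy⟩ := (p i).2.1
        exact ⟨⟨y, hsub i hy⟩, hy⟩, fun u v hu hv ⟨a, ha, hau⟩ ⟨b, hb, hbv⟩ => by
        obtain ⟨U, hU, rfl⟩ := isOpen_induced_iff.1 hu
        obtain ⟨V, hV, rfl⟩ := isOpen_induced_iff.1 hv
        obtain ⟨w, hw, hwU, hwV⟩ := (p i).2.2 U V hU hV ⟨a.1, ha, hau⟩ ⟨b.1, hb, hbv⟩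
        exact ⟨⟨w, hsub i hw⟩, hw, hwU, hwV⟩⟩, (p i).3.preimage continuous_subtype_val⟩
  have hg : StrictMono g := fun i j hij => by
    obtain ⟨h1, h2⟩ := lt_iff_le_not_ge.1 (p.strictMono hij)
    exact lt_iff_le_not_ge.2 ⟨fun y hy => h1 hy, fun h => h2 fun y hy => h (show (⟨y, hsub j hy⟩ : S) ∈ _ from hy)⟩
  have := Order.LTSeries.length_le_krullDim (LTSeries.mk p.length g hg)
  exact_mod_cast this.trans hd

/-- Coherent cohomology vanishes above the dimension of a closed set containing the support. -/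
theorem subsingleton_HH_of_support_dim [IsNoetherian X] (M : X.Modules) {S : Set X} (hS : IsClosed S)
    (hM : ∀ x ∉ S, Subsingleton (M.presheaf.stalk x)) {d : ℕ} (hd : topologicalKrullDim S ≤ d) (p : ℕ) (hp : d < p) :
    Subsingleton (Coh.HH X M p) := by
  have hb : Groth.Agent.CohTop.Vanishing.Bound (X := X.toPresheafedSpace.carrier) S (d + 1) := fun T hT =>
    lt_of_le_of_lt (height_le_of_subset hd T hT) (by exact_mod_cast Nat.lt_succ_self d)
  have hs : Groth.Agent.CohTop.Vanishing.Supp (X := X.toPresheafedSpace.carrier) S (Coh.toAb M) := fun V hV s => by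
    refine TopCat.Presheaf.section_ext ⟨M.presheaf, M.isSheaf⟩ V s 0 fun x hx => ?_
    haveI := hM x (Set.disjoint_left.1 hV hx)
    exact Subsingleton.elim _ _
  haveI := Groth.Agent.CohTop.Vanishing.van_of_supp ⟨S, hS⟩ (d + 1) hb (Coh.toAb M) hs p hp
  exact (Groth.Agent.CohTop.Basic.HEquivHUTop (Coh.toAb M) p).injective.subsingleton

/-- Vanishing of an `Ext` group, in the derived category. -/
theorem single_hom_eq_zero {C : Type*} [Category C] [Abelian C] [HasDerivedCategory C] [HasExt C]
    (P M : C) (n : ℕ) (h : Subsingleton (Abelian.Ext P M n)) (a b : ℤ) (hab : a = b + n)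
    (f : (singleFunctor C a).obj P ⟶ (singleFunctor C b).obj M) : f = 0 := by
  have hs : Subsingleton ((singleFunctor C 0).obj P ⟶ ((singleFunctor C 0).obj M)⟦(n : ℤ)⟧) :=
    (Abelian.Ext.homEquiv (X := P) (Y := M) (n := n)).symm.subsingleton
  let e1 : ((singleFunctor C a).obj P)⟦a⟧ ≅ (singleFunctor C 0).obj P :=
    ((DerivedCategory.singleFunctors C).shiftIso a 0 a (add_zero a)).app P
  let e2 : ((singleFunctor C b).obj M)⟦a⟧ ≅ ((singleFunctor C 0).obj M)⟦(n : ℤ)⟧ :=
    (shiftFunctorAdd' (DerivedCategory C) b (n : ℤ) a hab.symm).app _ ≪≫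
      (shiftFunctor _ (n : ℤ)).mapIso (((DerivedCategory.singleFunctors C).shiftIso b 0 b (add_zero b)).app M)
  have hsub : Subsingleton (((singleFunctor C a).obj P)⟦a⟧ ⟶ ((singleFunctor C b).obj M)⟦a⟧) :=
    (Iso.homCongr e1 e2).subsingleton
  apply (shiftFunctor (DerivedCategory C) a).map_injective
  exact hsub.elim _ _

/-- No maps from the free module into a quasi-coherent one in degrees where cohomology vanishes. -/
theorem free_top_eq_zero (M : X.Modules) (n : ℕ) (h : Subsingleton (Coh.HH X M n)) (a b : ℤ) (hab : a = b + n)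
    (f : (singleFunctor X.Modules a).obj (free (⊤ : X.Opens)) ⟶ (singleFunctor X.Modules b).obj M) : f = 0 := by
  have : EnoughInjectives X.Modules := ModShf.schemeModulesEnoughInjectives X
  have : HasExt.{u} X.Modules := hasExt_of_enoughInjectives.{u} _
  obtain ⟨e⟩ : Nonempty (Abelian.Ext (Coh.structureModule X) M n ≃+ Coh.HH X M n) :=
    @Groth.Agent.S0491.result _ _ (Opens.grothendieckTopology X) X.ringCatSheaf
      ‹HasExt.{u} X.Modules› M n
  have hE : Subsingleton (Abelian.Ext (Coh.structureModule X) M n) := e.toEquiv.subsingleton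
  have hz := single_hom_eq_zero (Coh.structureModule X) M n hE a b hab
    ((singleFunctor X.Modules a).map (CohDerLib.QC.freeTopIso X).inv ≫ f)
  rwa [← cancel_epi ((singleFunctor X.Modules a).map (CohDerLib.QC.freeTopIso X).inv), comp_zero]

theorem app_injective {M N : X.Modules} (φ : M ⟶ N) [Mono φ] (V : X.Opens) :
    Function.Injective (φ.app V) := by
  intro s t h
  refine TopCat.Presheaf.section_ext ⟨_, M.isSheaf⟩ _ _ _ fun y hy => ?_
  refine Omega.Stalks.stalkLin_injective_of_mono φ y ?_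
  change PullStalk.Exact.stalkLin φ y (PullStalk.Sky.germM M V y hy s) =
    PullStalk.Exact.stalkLin φ y (PullStalk.Sky.germM M V y hy t)
  rw [PullStalk.Exact.stalkLin_germ, PullStalk.Exact.stalkLin_germ, h]

variable {S : Scheme.{u}} (f : X ⟶ S) [Subsingleton S]

theorem basis (U : S.Opens) (y : S) (hy : y ∈ U) : ∃ _ : PUnit.{1}, y ∈ (⊤ : S.Opens) ∧ (⊤ : S.Opens) ≤ U :=
  ⟨⟨⟩, trivial, fun z _ => Subsingleton.elim y z ▸ hy⟩

variable [DCoh.HasRpush f]

/-- Cohomology of the derived direct image to a point, above the cohomological dimension. -/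
theorem isZero_HD_Rpush (E : DCoh.D X) (hE : DCoh.IsQCohD E) [E.IsLE 0] (d : ℕ)
    (hd : ∀ F : X.Modules, F.IsQuasicoherent → ∀ n, d < n → Subsingleton (Coh.HH X F n)) (m : ℤ) (hm : (d : ℤ) < m) :
    IsZero (DCoh.HD ((DCoh.Rpush f).obj E) m) := by
  have hV : CohDerLib.QC.Van d (free (⊤ : X.Opens)) := fun F hF a b hab g =>
    free_top_eq_zero F (a - b).toNat (hd F hF _ (by omega)) a b (by omega) g
  exact CohDerLib.QC.isZero_HD_Rpush f (fun _ : PUnit.{1} => ⊤) basis E m fun _ =>
    CohDerLib.QC.hom_zero hV E hE 0 m (by omega)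

/-- A single module with vanishing higher cohomology pushes to degrees below. -/
theorem isLE_Rpush_single (G : X.Modules) (hG : ∀ n, 0 < n → Subsingleton (Coh.HH X G n)) (b : ℤ) :
    ((DCoh.Rpush f).obj ((singleFunctor X.Modules b).obj G)).IsLE b := by
  refine (DerivedCategory.isLE_iff _ _).2 fun m hm => ?_
  exact CohDerLib.QC.isZero_HD_Rpush f (fun _ : PUnit.{1} => ⊤) basis _ m fun _ =>
    subsingleton_of_forall_eq 0 fun g => free_top_eq_zero G (m - b).toNat (hG _ (by omega)) m b (by omega) g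

variable (hf : DCoh.RpushPreservesQCoh f) (a : DCoh.DQCoh S ⥤ DCoh.DQCoh X) (adj : DCoh.RpushQ f hf ⊣ a)

include adj in
/-- The right adjoint of the direct image from a curve to a point lives in degrees `≥ -1`. -/
theorem isGE_adjoint (hd : ∀ F : X.Modules, F.IsQuasicoherent → ∀ n, 1 < n → Subsingleton (Coh.HH X F n))
    (K : DCoh.DQCoh S) [K.obj.IsGE 0] : (a.obj K).obj.IsGE (-1) := by
  refine (DerivedCategory.isGE_iff _ _).2 fun i hi => ?_
  let A := (a.obj K).obj
  let G := (TStructure.t.truncLT (i + 1)).obj A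
  have hG : DCoh.IsQCohD G := CohDerLib.QC.isQCohD_truncLT (a.obj K).property _
  have hGle : G.IsLE i := by
    have h' : TStructure.t.IsLE G (i + 1 - 1) := inferInstance
    simpa using h'
  have hle : ((DCoh.Rpush f).obj G).IsLE (-1) := by
    refine (DerivedCategory.isLE_iff _ _).2 fun j hj => ?_
    have hE : DCoh.IsQCohD (G⟦i⟧) := fun k =>
      DualCx.AdjAmp.isQCoh_of_iso _ _ (((homologyFunctor X.Modules 0).shiftIso i k (i + k) rfl).app G).symm (hG (i + k))
    haveI hEle : (G⟦i⟧ : DCoh.D X).IsLE 0 := (DerivedCategory.isLE_iff _ _).2 fun k hk =>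
      (isZero_of_isLE G i (i + k) (by omega)).of_iso
        (((homologyFunctor X.Modules 0).shiftIso i k (i + k) rfl).app G)
    obtain ⟨e'⟩ := DualCx.AdjAmp.nonempty_shiftIso f G i
    exact (isZero_HD_Rpush f _ hE 1 hd (j - i) (by omega)).of_iso
      ((((homologyFunctor S.Modules 0).shiftIso i (j - i) j (by omega)).app _).symm ≪≫
        (homologyFunctor S.Modules (j - i)).mapIso e'.symm)
  have hzero : ∀ v : (DCoh.Rpush f).obj G ⟶ K.obj, v = 0 := fun v => TStructure.t.zero v (-1) 0 (by omega)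
  let g : (⟨G, hG⟩ : DCoh.DQCoh X) ⟶ a.obj K := ObjectProperty.homMk ((TStructure.t.truncLTι (i + 1)).app A)
  let g0 : (⟨G, hG⟩ : DCoh.DQCoh X) ⟶ a.obj K := ObjectProperty.homMk 0
  have hg : g = g0 := (adj.homEquiv _ _).symm.injective (ObjectProperty.hom_ext _
    ((hzero _).trans (hzero _).symm))
  have hι : (TStructure.t.truncLTι (i + 1)).app A = 0 := congrArg InducedCategory.Hom.hom hg
  have := KFlat.TruncHom.isIso_H_truncLTι A (i + 1) i (by omega)
  rw [IsZero.iff_id_eq_zero, ← cancel_epi ((homologyFunctor X.Modules i).map ((TStructure.t.truncLTι (i + 1)).app A)),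
    comp_zero]
  simp [A, hι]

include adj in
/-- A submodule without higher cohomology of the lowest cohomology module is zero. -/
theorem isZero_of_mono (hd : ∀ F : X.Modules, F.IsQuasicoherent → ∀ n, 1 < n → Subsingleton (Coh.HH X F n))
    (K : DCoh.DQCoh S) [K.obj.IsGE 0] (G : X.Modules) (hGq : G.IsQuasicoherent)
    (hG : ∀ n, 0 < n → Subsingleton (Coh.HH X G n)) (φ : G ⟶ DCoh.HD (a.obj K).obj (-1)) [Mono φ] : IsZero G := by
  let A := (a.obj K).obj
  haveI : A.IsGE (-1) := isGE_adjoint f hf a adj hd K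
  let B := (TStructure.t.truncLT 0).obj A
  haveI : B.IsLE (-1) := by
    have h' : TStructure.t.IsLE B (0 - 1) := inferInstance
    simpa using h'
  haveI : B.IsGE (-1) := (DerivedCategory.isGE_iff _ _).2 fun k hk => by
    have := KFlat.TruncHom.isIso_H_truncLTι A 0 k (by omega)
    exact (isZero_of_isGE A (-1) k hk).of_iso (asIso ((homologyFunctor X.Modules k).map ((TStructure.t.truncLTι 0).app A)))
  obtain ⟨M, ⟨eB⟩⟩ := DerivedCategory.exists_iso_singleFunctor_obj_of_isGE_of_isLE B (-1)
  have := KFlat.TruncHom.isIso_H_truncLTι A 0 (-1) (by omega)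
  let eM : DCoh.HD A (-1) ≅ M :=
    (asIso ((homologyFunctor X.Modules (-1)).map ((TStructure.t.truncLTι 0).app A))).symm ≪≫
      (homologyFunctor X.Modules (-1)).mapIso eB ≪≫
      ((singleFunctorCompHomologyFunctorIso X.Modules (-1)).app M)
  let g : (singleFunctor X.Modules (-1)).obj G ⟶ A :=
    (singleFunctor X.Modules (-1)).map (φ ≫ eM.hom) ≫ eB.inv ≫ (TStructure.t.truncLTι 0).app A
  have hq : DCoh.IsQCohD ((singleFunctor X.Modules (-1)).obj G) := fun k => by
    by_cases hk : k = -1
    · subst hk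
      exact DualCx.AdjAmp.isQCoh_of_iso _ _ ((singleFunctorCompHomologyFunctorIso X.Modules (-1)).app G).symm hGq
    · refine DualCx.AdjAmp.isQCoh_of_isZero _ ?_
      rcases lt_or_gt_of_ne hk with h | h
      · exact isZero_of_isGE ((singleFunctor X.Modules (-1)).obj G) (-1) k h
      · exact isZero_of_isLE ((singleFunctor X.Modules (-1)).obj G) (-1) k h
  haveI : ((DCoh.Rpush f).obj ((singleFunctor X.Modules (-1)).obj G)).IsLE (-1) := isLE_Rpush_single f G hG (-1)
  have hzero : ∀ v : (DCoh.Rpush f).obj ((singleFunctor X.Modules (-1)).obj G) ⟶ K.obj, v = 0 :=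
    fun v => TStructure.t.zero v (-1) 0 (by omega)
  let g1 : (⟨_, hq⟩ : DCoh.DQCoh X) ⟶ a.obj K := ObjectProperty.homMk g
  let g0 : (⟨_, hq⟩ : DCoh.DQCoh X) ⟶ a.obj K := ObjectProperty.homMk 0
  have hg : g1 = g0 := (adj.homEquiv _ _).symm.injective (ObjectProperty.hom_ext _
    ((hzero _).trans (hzero _).symm))
  have hg0 : g = 0 := congrArg InducedCategory.Hom.hom hg
  let H := homologyFunctor X.Modules (-1)
  have hm : Mono (H.map g) := by
    haveI : Mono (H.map ((singleFunctor X.Modules (-1)).map (φ ≫ eM.hom))) :=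
      ((MorphismProperty.monomorphisms X.Modules).arrow_mk_iso_iff
        (((Functor.mapArrowFunctor _ _).mapIso (singleFunctorCompHomologyFunctorIso X.Modules (-1))).app
          (Arrow.mk (φ ≫ eM.hom)))).2 (inferInstanceAs (Mono (φ ≫ eM.hom)))
    haveI : IsIso (H.map ((TStructure.t.truncLTι 0).app A)) := ‹IsIso _›
    simp only [g, H.map_comp]
    infer_instance
  rw [hg0, H.map_zero] at hm
  haveI := hm
  exact ((singleFunctorCompHomologyFunctorIso X.Modules (-1)).app G).isZero_iff.1
    (IsZero.of_mono_zero (H.obj ((singleFunctor X.Modules (-1)).obj G)) (H.obj A))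

/-- Sections of the dualizing module inject into their restriction to an open with finitely many closed points
missing. -/
theorem injective_restrict [IsNoetherian X] (hdim : topologicalKrullDim X ≤ (1 : ℕ))
    (adj : DCoh.RpushQ f hf ⊣ a) (K : DCoh.DQCoh S) [K.obj.IsGE 0]
    (U : X.Opens) (hU : ∀ x : X, ¬ IsClosed ({x} : Set X) → x ∈ U) (V : X.Opens) :
    Function.Injective ((DCoh.HD (a.obj K).obj (-1)).presheaf.map (homOfLE (inf_le_left : V ⊓ U ≤ V)).op) := by
  set ω := DCoh.HD (a.obj K).obj (-1)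
  haveI : ω.IsQuasicoherent := (a.obj K).property (-1)
  let η := (Scheme.Modules.restrictAdjunction U.ι).unit.app ω
  haveI : QuasiCompact U.ι := inferInstance
  haveI : ((Scheme.Modules.restrictFunctor U.ι).obj ω).IsQuasicoherent :=
    Scheme.Modules.isQuasicoherent_restrictFunctor U.ι ω
  haveI : ((Scheme.Modules.restrictFunctor U.ι ⋙ Scheme.Modules.pushforward U.ι).obj ω).IsQuasicoherent :=
    QCoh.isQuasicoherent_pushforward U.ι ((Scheme.Modules.restrictFunctor U.ι).obj ω)
  haveI : (kernel η).IsQuasicoherent := @QCoh.isQuasicoherent_kernel X _ _ η ‹_› ‹_›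
  have hvan : ∀ F : X.Modules, F.IsQuasicoherent → ∀ n, 1 < n → Subsingleton (Coh.HH X F n) := fun F _ n hn =>
    subsingleton_HH_of_support_dim F isClosed_univ (fun x hx => absurd (Set.mem_univ x) hx)
      (le_trans (topologicalKrullDim_subspace_le X Set.univ) hdim) n hn
  have happ : ∀ (W : X.Opens) (s : Γ(kernel η, W)),
      ω.presheaf.map (homOfLE (U.ι.image_preimage_le W)).op ((kernel.ι η).app W s) = 0 := fun W s => by
    have h := ConcreteCategory.congr_hom (congrArg (fun q => Scheme.Modules.Hom.app q W) (kernel.condition η)) s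
    exact h
  have hstalk : ∀ x : X, x ∈ U → Subsingleton ((kernel η).presheaf.stalk x) := fun x hx =>
    subsingleton_of_forall_eq 0 fun t => by
      obtain ⟨W, hxW, s, rfl⟩ := TopCat.Presheaf.exists_germ_eq (kernel η).presheaf t
      have hxW' : x ∈ U.ι ''ᵁ (U.ι ⁻¹ᵁ W) := ⟨⟨x, hx⟩, hxW, rfl⟩
      rw [← TopCat.Presheaf.germ_res_apply (kernel η).presheaf (homOfLE (U.ι.image_preimage_le W)) x hxW' s]
      have hz : (kernel η).presheaf.map (homOfLE (U.ι.image_preimage_le W)).op s = 0 := by
        apply app_injective (kernel.ι η) _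
        rw [map_zero]
        exact (ConcreteCategory.congr_hom ((kernel.ι η).mapPresheaf.naturality _) s).trans (happ W s)
      rw [hz, map_zero]
  have hT : IsClosed ((U : Set X)ᶜ) := U.2.isClosed_compl
  have hd0 : topologicalKrullDim ↥((U : Set X)ᶜ) ≤ (0 : ℕ) := by
    refine le_of_le_of_eq (Order.krullDim_nonpos_iff_forall_isMax.mpr fun Z Y h => ?_) Nat.cast_zero.symm
    obtain ⟨g, hg⟩ := QuasiSober.sober (Y.2.image _ continuous_subtype_val.continuousOn)
      (hT.isClosedEmbedding_subtypeVal.isClosedMap _ Y.3)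
    obtain ⟨y, -, rfl⟩ := hg.mem
    have hc : IsClosed ({y.1} : Set X) := by_contra fun h => y.2 (hU _ h)
    have hgY : ∀ w ∈ (Y : Set _), w = y := fun w hw => Subtype.ext
      (by simpa using (hc.closure_eq ▸ hg.def.symm.subset (Set.mem_image_of_mem _ hw) : w.1 ∈ ({y.1} : Set X)))
    obtain ⟨z, hz⟩ := Z.2.nonempty
    refine (h.antisymm' fun w hw => ?_).le
    rwa [hgY w hw, ← hgY z (h hz)]
  have hker : IsZero (kernel η) := isZero_of_mono f hf a adj hvan K (kernel η) inferInstance
    (fun n hn => subsingleton_HH_of_support_dim (kernel η) hT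
      (fun x hx => hstalk x (not_not.1 hx)) hd0 n hn) (kernel.ι η)
  haveI : Mono η := Preadditive.mono_of_kernel_zero (hker.eq_of_src _ _)
  intro s t hst
  apply app_injective η V
  have hle : U.ι ''ᵁ (U.ι ⁻¹ᵁ V) ≤ V ⊓ U := le_inf (U.ι.image_preimage_le V) (by rintro _ ⟨y, -, rfl⟩; exact y.2)
  have := congrArg (ω.presheaf.map (homOfLE hle).op) hst
  rw [← ConcreteCategory.comp_apply, ← Functor.map_comp, ← ConcreteCategory.comp_apply, ← Functor.map_comp] at this
  exact this

end Groth.Agent.DualCurveTF
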